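import Groth.Agent.Lib.DerivedOX.Grothendieck
import Mathlib.CategoryTheory.Adjunction.AdjointFunctorTheorems
import Mathlib.CategoryTheory.Abelian.Subobject
import Mathlib.Algebra.Category.ModuleCat.Sheaf.PushforwardContinuous
import Mathlib.CategoryTheory.Sites.LeftExact
import Mathlib.Algebra.Category.Grp.FilteredColimits
import Mathlib.Algebra.Category.Ring.FilteredColimits

/-!
# Sheaves of modules on a small site: limits, colimits and adjoints
-/

universe u w w'

open CategoryTheory Limits

namespace Groth.Agent.Lib.SiteMod.Basic

variable {C : Type u} [SmallCategory C] {J : GrothendieckTopology C} (R : Sheaf J RingCat.{u})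

instance toSheaf_preservesColimitsOfSize :
    PreservesColimitsOfSize.{u, u} (SheafOfModules.toSheaf.{u} R) :=
  ⟨fun {_} _ => inferInstance⟩

instance toSheaf_preservesLimitsOfSize :
    PreservesLimitsOfSize.{u, u} (SheafOfModules.toSheaf.{u} R) :=
  haveI : PreservesLimitsOfSize.{u, u}
      (SheafOfModules.toSheaf.{u} R ⋙ sheafToPresheaf J AddCommGrpCat.{u}) :=
    inferInstanceAs (PreservesLimitsOfSize.{u, u}
      (SheafOfModules.forget.{u} R ⋙ PresheafOfModules.toPresheaf _))
  preservesLimits_of_reflects_of_preserves _ (sheafToPresheaf J AddCommGrpCat.{u})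

variable {R}

/-- A functor into sheaves of modules preserves colimits if its composite with `toSheaf` does. -/
theorem preservesColimits_of_comp_toSheaf {D : Type*} [Category.{u} D]
    (T : D ⥤ SheafOfModules.{u} R)
    [PreservesColimitsOfSize.{u, u} (T ⋙ SheafOfModules.toSheaf.{u} R)] :
    PreservesColimitsOfSize.{u, u} T :=
  haveI : ReflectsColimitsOfSize.{u, u} (SheafOfModules.toSheaf.{u} R) :=
    reflectsColimits_of_reflectsIsomorphisms
  preservesColimits_of_reflects_of_preserves T (SheafOfModules.toSheaf.{u} R)

/-- A functor into sheaves of modules preserves limits if its composite with `toSheaf` does. -/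
theorem preservesLimits_of_comp_toSheaf {D : Type*} [Category.{u} D]
    (T : D ⥤ SheafOfModules.{u} R)
    [PreservesLimitsOfSize.{u, u} (T ⋙ SheafOfModules.toSheaf.{u} R)] :
    PreservesLimitsOfSize.{u, u} T :=
  haveI : ReflectsLimitsOfSize.{u, u} (SheafOfModules.toSheaf.{u} R) :=
    reflectsLimits_of_reflectsIsomorphisms
  preservesLimits_of_reflects_of_preserves T (SheafOfModules.toSheaf.{u} R)

/-- A colimit preserving functor out of sheaves of modules on a small site is a left adjoint. -/
theorem isLeftAdjoint_of_preservesColimits {D : Type*} [Category.{u} D]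
    (T : SheafOfModules.{u} R ⥤ D) [PreservesColimitsOfSize.{u, u} T] : T.IsLeftAdjoint :=
  haveI := Groth.Agent.Lib.DerivedOX.Grothendieck.isGrothendieckAbelian_sheafOfModules R
  haveI : WellPowered.{u} (SheafOfModules.{u} R) := IsGrothendieckAbelian.wellPowered _
  haveI : WellPowered.{u} (SheafOfModules.{u} R)ᵒᵖ := CategoryTheory.Abelian.wellPowered_opposite
  isLeftAdjoint_of_preservesColimits_of_isSeparating (isSeparator_separator _) T

end Groth.Agent.Lib.SiteMod.Basic
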